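import Mathlib

/-!
Differentials of symmetric algebras of a conormal module with a split cotangent complex.
-/

set_option autoImplicit false
set_option linter.style.haveILetI false

universe u

namespace Groth.Agent.SymKaehler

open TensorProduct

/-- Universal property of the symmetric algebra with respect to an arbitrary ring map on the base. -/
theorem exists_ringHom_symmetricAlgebra {A M T : Type u} [CommRing A] [AddCommGroup M] [Module A M]
    [CommRing T] (χ : A →+* T) (δ : M →+ T) (h : ∀ (x : A) (m : M), δ (x • m) = χ x * δ m) :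
    ∃ ψ : SymmetricAlgebra A M →+* T,
      (∀ x, ψ (algebraMap A (SymmetricAlgebra A M) x) = χ x) ∧
      ∀ m, ψ (SymmetricAlgebra.ι A M m) = δ m := by
  letI : Algebra A T := χ.toAlgebra
  let l : M →ₗ[A] T :=
    { toFun := δ
      map_add' := δ.map_add
      map_smul' := fun x m => by rw [h, RingHom.id_apply, Algebra.smul_def]; rfl }
  exact ⟨(SymmetricAlgebra.lift l).toRingHom, fun x => (SymmetricAlgebra.lift l).commutes x,
    fun m => SymmetricAlgebra.lift_ι_apply l m⟩

variable {R A M : Type u} [CommRing R] [CommRing A] [Algebra R A] [AddCommGroup M] [Module A M]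
  [Algebra R (SymmetricAlgebra A M)] [IsScalarTower R A (SymmetricAlgebra A M)]

/-- A derivation on the symmetric algebra is given by its restrictions to the base and to the
module. -/
theorem exists_derivation {N : Type u} [AddCommGroup N] [Module A N]
    [Module (SymmetricAlgebra A M) N] [IsScalarTower A (SymmetricAlgebra A M) N]
    [Module R N] [IsScalarTower R A N] [IsScalarTower R (SymmetricAlgebra A M) N]
    (D₀ : Derivation R A N) (δ : M →+ N)
    (h : ∀ (x : A) (m : M), δ (x • m) = x • δ m + SymmetricAlgebra.ι A M m • D₀ x) :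
    ∃ D : Derivation R (SymmetricAlgebra A M) N,
      (∀ x, D (algebraMap A (SymmetricAlgebra A M) x) = D₀ x) ∧
      ∀ m, D (SymmetricAlgebra.ι A M m) = δ m := by
  letI : Module (SymmetricAlgebra A M)ᵐᵒᵖ N := Module.compHom N ((RingHom.id (SymmetricAlgebra A M)).fromOpposite fun x y => mul_comm x y)
  haveI : IsCentralScalar (SymmetricAlgebra A M) N := ⟨fun _ _ => rfl⟩
  let χ : A →+* TrivSqZeroExt (SymmetricAlgebra A M) N :=
    { toFun := fun x => TrivSqZeroExt.inl (algebraMap A (SymmetricAlgebra A M) x) + TrivSqZeroExt.inr (D₀ x)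
      map_one' := by ext <;> simp
      map_zero' := by ext <;> simp
      map_add' := fun x y => by ext <;> simp
      map_mul' := fun x y => by
        ext
        · simp
        · simp [TrivSqZeroExt.snd_mul, algebraMap_smul] }
  let δ' : M →+ TrivSqZeroExt (SymmetricAlgebra A M) N :=
    { toFun := fun m => TrivSqZeroExt.inl (SymmetricAlgebra.ι A M m) + TrivSqZeroExt.inr (δ m)
      map_zero' := by ext <;> simp
      map_add' := fun x y => by ext <;> simp }
  obtain ⟨ψ, hψ₁, hψ₂⟩ := exists_ringHom_symmetricAlgebra χ δ' (fun x m => by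
    ext
    · simp [χ, δ', Algebra.smul_def]
    · simp [χ, δ', TrivSqZeroExt.snd_mul, algebraMap_smul, h, op_smul_eq_smul])
  have hfst : ∀ c, (ψ c).fst = c := by
    intro c
    induction c using SymmetricAlgebra.induction with
    | algebraMap r => rw [hψ₁]; simp [χ]
    | ι m => rw [hψ₂]; simp [δ']
    | mul a b ha hb => rw [map_mul, TrivSqZeroExt.fst_mul, ha, hb]
    | add a b ha hb => rw [map_add, TrivSqZeroExt.fst_add, ha, hb]
  let D' : (SymmetricAlgebra A M) →+ N :=
    { toFun := fun c => (ψ c).snd
      map_zero' := by rw [map_zero]; rfl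
      map_add' := fun a b => by rw [map_add]; rfl }
  have hA : ∀ x, D' (algebraMap A (SymmetricAlgebra A M) x) = D₀ x := fun x => by
    simp [D', hψ₁, χ]
  have hmul : ∀ a b, D' (a * b) = a • D' b + b • D' a := fun a b => by
    change (ψ (a * b)).snd = _
    rw [map_mul, TrivSqZeroExt.snd_mul, hfst, hfst, op_smul_eq_smul]
    rfl
  refine ⟨Derivation.mk'
    { toFun := D'
      map_add' := D'.map_add
      map_smul' := fun r c => ?_ } hmul, hA, fun m => ?_⟩
  · rw [RingHom.id_apply, Algebra.smul_def, hmul, IsScalarTower.algebraMap_apply R A (SymmetricAlgebra A M) r, hA,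
      Derivation.map_algebraMap, smul_zero, add_zero, ← IsScalarTower.algebraMap_apply R A (SymmetricAlgebra A M) r,
      algebraMap_smul]
  · change (ψ (SymmetricAlgebra.ι A M m)).snd = _
    simp [hψ₂, δ']

/-- If the cotangent complex `M → F → Ω` splits after inverting `t`, then the differentials of a
formally étale algebra over the symmetric algebra of `M` in which `t` is invertible are `L ⊗ F`. -/
theorem nonempty_equiv {F : Type u} [AddCommGroup F] [Module A F] {ι : Type} [Fintype ι]
    (b : Module.Basis ι A F) (d : M →ₗ[A] F) (g : F →ₗ[A] Ω[A⁄R]) (hex : Function.Exact d g)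
    (hg : Function.Surjective g) (r : F →ₗ[A] M) (t : A) (hr : ∀ m, r (d m) = t • m)
    (L : Type u) [CommRing L] [Algebra (SymmetricAlgebra A M) L] [Algebra A L] [Algebra R L]
    [IsScalarTower A (SymmetricAlgebra A M) L] [IsScalarTower R (SymmetricAlgebra A M) L]
    [IsScalarTower R A L] [Algebra.FormallyEtale (SymmetricAlgebra A M) L]
    (ht : IsUnit (algebraMap A L t)) :
    Nonempty ((L ⊗[A] F) ≃ₗ[L] Ω[L⁄R]) := by
  classical
  let w : L := ((ht.unit⁻¹ : Lˣ) : L)
  have hw : w * algebraMap A L t = 1 := ht.val_inv_mul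
  let j : M →ₗ[A] L := (IsScalarTower.toAlgHom A (SymmetricAlgebra A M) L).toLinearMap.comp (SymmetricAlgebra.ι A M)
  let c : ι → M →ₗ[A] A := fun i => (b.coord i).comp d
  let ρ : ι → L := fun i => w * j (r (b i))
  have hρ : ∀ m, ∑ i, c i m • ρ i = j m := by
    intro m
    have h1 : r (d m) = ∑ i, c i m • r (b i) := by
      conv_lhs => rw [← b.sum_repr (d m)]
      rw [map_sum]
      exact Finset.sum_congr rfl fun i _ => by rw [map_smul]; rfl
    rw [hr] at h1
    have h2 := congrArg j h1
    rw [map_smul, map_sum, Algebra.smul_def] at h2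
    calc ∑ i, c i m • ρ i = w * ∑ i, c i m • j (r (b i)) := by
          rw [Finset.mul_sum]
          exact Finset.sum_congr rfl fun i _ => (mul_smul_comm _ _ _).symm
      _ = w * (algebraMap A L t * j m) := by
          rw [h2]
          exact congrArg _ (Finset.sum_congr rfl fun i _ => (map_smul _ _ _).symm)
      _ = j m := by rw [← mul_assoc, hw, one_mul]
  let e₁ : F →ₗ[A] L ⊗[A] F := TensorProduct.mk A L F 1
  let v : F →ₗ[A] L ⊗[A] F := e₁ - w • (e₁.comp (d.comp r))
  have hv : ∀ m, v (d m) = 0 := fun m => by
    simp only [v, LinearMap.sub_apply, LinearMap.smul_apply, LinearMap.comp_apply, hr, map_smul]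
    rw [← algebraMap_smul L t (e₁ (d m)), smul_smul, hw, one_smul, sub_self]
  let v' : Ω[A⁄R] →ₗ[A] L ⊗[A] F :=
    ((LinearMap.ker g).liftQ v (fun x hx => by
      obtain ⟨m, rfl⟩ := (hex x).mp hx
      exact hv m)).comp (LinearMap.quotKerEquivOfSurjective g hg).symm.toLinearMap
  have hv' : ∀ f, v' (g f) = v f := fun f => by
    have : (LinearMap.quotKerEquivOfSurjective g hg).symm (g f) = Submodule.Quotient.mk f :=
      (LinearEquiv.symm_apply_eq _).mpr rfl
    simp only [v', LinearMap.comp_apply, LinearEquiv.coe_coe, this, Submodule.liftQ_apply]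
  let D₀ : Derivation R A (L ⊗[A] F) := v'.compDer (KaehlerDifferential.D R A)
  let δ : M →+ L ⊗[A] F :=
    { toFun := fun m => e₁ (d m) + ∑ i, ρ i • D₀ (c i m)
      map_zero' := by simp
      map_add' := fun x y => by
        simp only [map_add, smul_add, Finset.sum_add_distrib]
        abel }
  have hδ : ∀ (x : A) (m : M), δ (x • m) = x • δ m + SymmetricAlgebra.ι A M m • D₀ x := by
    intro x m
    have h3 : SymmetricAlgebra.ι A M m • D₀ x = j m • D₀ x :=
      (algebraMap_smul L (SymmetricAlgebra.ι A M m) (D₀ x)).symm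
    change e₁ (d (x • m)) + ∑ i, ρ i • D₀ (c i (x • m)) =
      x • (e₁ (d m) + ∑ i, ρ i • D₀ (c i m)) + _
    simp only [map_smul, smul_eq_mul, Derivation.leibniz, smul_add, Finset.sum_add_distrib,
      Finset.smul_sum]
    rw [h3, ← hρ m, Finset.sum_smul]
    have h4 : ∀ i, ρ i • x • D₀ (c i m) = x • ρ i • D₀ (c i m) := fun i => smul_comm _ _ _
    have h5 : ∀ i, ρ i • c i m • D₀ x = (c i m • ρ i) • D₀ x := fun i => by
      rw [smul_comm, smul_assoc]
    simp only [h4, h5]
    abel
  obtain ⟨D, hD₁, hD₂⟩ := exists_derivation D₀ δ hδ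
  let θ := KaehlerDifferential.tensorKaehlerEquivOfFormallyEtale R (SymmetricAlgebra A M) L
  let Ψ : Ω[L⁄R] →ₗ[L] L ⊗[A] F :=
    (LinearMap.liftBaseChange L D.liftKaehlerDifferential).comp θ.symm.toLinearMap
  have hΨ : ∀ x : (SymmetricAlgebra A M), Ψ (KaehlerDifferential.D R L (algebraMap (SymmetricAlgebra A M) L x)) = D x := fun x => by
    simp only [Ψ, LinearMap.comp_apply, LinearEquiv.coe_coe, θ,
      KaehlerDifferential.tensorKaehlerEquivOfFormallyEtale_symm_D_algebraMap,
      LinearMap.liftBaseChange_tmul, one_smul, Derivation.liftKaehlerDifferential_comp_D]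
  let η : M →ₗ[A] Ω[L⁄R] :=
    { toFun := fun m => KaehlerDifferential.D R L (j m) -
        ∑ i, ρ i • KaehlerDifferential.D R L (algebraMap A L (c i m))
      map_add' := fun x y => by
        simp only [map_add, smul_add, Finset.sum_add_distrib]
        abel
      map_smul' := fun x m => by
        have hDj : KaehlerDifferential.D R L (j (x • m)) = x • KaehlerDifferential.D R L (j m) +
            j m • KaehlerDifferential.D R L (algebraMap A L x) := by
          rw [map_smul, Algebra.smul_def, Derivation.leibniz, algebraMap_smul]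
        rw [hDj]
        simp only [map_smul, smul_eq_mul, map_mul, Derivation.leibniz, smul_add,
          Finset.sum_add_distrib, RingHom.id_apply, algebraMap_smul]
        rw [smul_sub, Finset.smul_sum]
        have h6 : j m • KaehlerDifferential.D R L (algebraMap A L x) =
            ∑ i, (c i m • ρ i) • KaehlerDifferential.D R L (algebraMap A L x) := by
          rw [← Finset.sum_smul, hρ]
        have h4 : ∀ i, ρ i • x • KaehlerDifferential.D R L (algebraMap A L (c i m)) =
            x • ρ i • KaehlerDifferential.D R L (algebraMap A L (c i m)) := fun i => smul_comm _ _ _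
        have h5 : ∀ i, ρ i • c i m • KaehlerDifferential.D R L (algebraMap A L x) =
            (c i m • ρ i) • KaehlerDifferential.D R L (algebraMap A L x) := fun i => by
          rw [smul_comm, smul_assoc]
        simp only [h4, h5, h6]
        abel }
  let ω : F →ₗ[A] Ω[L⁄R] := (KaehlerDifferential.map R R A L).comp g
  have hω : ∀ m, ω (d m) = 0 := fun m => by
    simp only [ω, LinearMap.comp_apply, hex.apply_apply_eq_zero, map_zero]
  let φ : F →ₗ[A] Ω[L⁄R] := ω + w • η.comp r
  let Φ : L ⊗[A] F →ₗ[L] Ω[L⁄R] := φ.liftBaseChange L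
  have he : ∀ f, Φ (e₁ f) = φ f := fun f => by
    simp only [Φ, e₁, TensorProduct.mk_apply, LinearMap.liftBaseChange_tmul, one_smul]
  have hΦv : ∀ f, Φ (v f) = ω f := by
    intro f
    have h1 : φ (d (r f)) = η (r f) := by
      simp only [φ, LinearMap.add_apply, LinearMap.smul_apply, LinearMap.comp_apply, hω, zero_add,
        hr, map_smul]
      rw [← algebraMap_smul L t (η (r f)), smul_smul, hw, one_smul]
    simp only [v, LinearMap.sub_apply, LinearMap.smul_apply, LinearMap.comp_apply, map_sub,
      map_smul, he, h1]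
    simp only [φ, LinearMap.add_apply, LinearMap.smul_apply, LinearMap.comp_apply,
      add_sub_cancel_right]
  have hΦ₀ : ∀ x : A, Φ (D₀ x) = KaehlerDifferential.D R L (algebraMap A L x) := by
    intro x
    obtain ⟨f, hf⟩ := hg (KaehlerDifferential.D R A x)
    change Φ (v' (KaehlerDifferential.D R A x)) = _
    rw [← hf, hv', hΦv]
    change KaehlerDifferential.map R R A L (g f) = _
    rw [hf, KaehlerDifferential.map_D]
  have hΦD : ∀ y : (SymmetricAlgebra A M), Φ (D y) = KaehlerDifferential.D R L (algebraMap (SymmetricAlgebra A M) L y) := by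
    intro y
    have hs : ∀ (a : (SymmetricAlgebra A M)) (z : L ⊗[A] F), Φ (a • z) = algebraMap (SymmetricAlgebra A M) L a • Φ z := fun a z => by
      rw [← algebraMap_smul L a z, map_smul]
    induction y using SymmetricAlgebra.induction with
    | algebraMap x => rw [hD₁, hΦ₀, ← IsScalarTower.algebraMap_apply]
    | ι m =>
      rw [hD₂]
      change Φ (e₁ (d m) + ∑ i, ρ i • D₀ (c i m)) = KaehlerDifferential.D R L (j m)
      simp only [map_add, map_sum, map_smul, he, hΦ₀]
      have h1 : φ (d m) = η m := by
        simp only [φ, LinearMap.add_apply, LinearMap.smul_apply, LinearMap.comp_apply, hω,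
          zero_add, hr, map_smul]
        rw [← algebraMap_smul L t (η m), smul_smul, hw, one_smul]
      rw [h1]
      change KaehlerDifferential.D R L (j m) - _ + _ = _
      rw [sub_add_cancel]
    | mul a b ha hb =>
      rw [Derivation.leibniz, map_add, hs, hs, ha, hb, map_mul, Derivation.leibniz]
    | add a b ha hb => rw [map_add, map_add, ha, hb, map_add, map_add]
  have hΦΨ : Φ.comp Ψ = LinearMap.id := by
    have h1 : (Φ.comp Ψ).comp θ.toLinearMap = θ.toLinearMap := by
      apply TensorProduct.AlgebraTensorModule.curry_injective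
      ext : 1
      apply Derivation.liftKaehlerDifferential_unique
      ext y
      simp [hΦD, hΨ, θ, KaehlerDifferential.tensorKaehlerEquivOfFormallyEtale_apply]
    apply LinearMap.ext
    intro z
    simpa using LinearMap.congr_fun h1 (θ.symm z)
  have hΨω : ∀ f, Ψ (ω f) = v f := by
    intro f
    have h1 : ((Ψ.restrictScalars A).comp (KaehlerDifferential.map R R A L)) = v' := by
      apply Derivation.liftKaehlerDifferential_unique
      ext x
      change Ψ (KaehlerDifferential.map R R A L (KaehlerDifferential.D R A x)) = D₀ x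
      rw [KaehlerDifferential.map_D, IsScalarTower.algebraMap_apply A (SymmetricAlgebra A M) L, hΨ, hD₁]
    change Ψ (KaehlerDifferential.map R R A L (g f)) = _
    rw [← hv' f, ← h1]
    rfl
  have hΨη : ∀ m, Ψ (η m) = e₁ (d m) := by
    intro m
    change Ψ (KaehlerDifferential.D R L (algebraMap (SymmetricAlgebra A M) L (SymmetricAlgebra.ι A M m)) -
      ∑ i, ρ i • KaehlerDifferential.D R L (algebraMap A L (c i m))) = _
    simp only [map_sub, map_sum, map_smul, IsScalarTower.algebraMap_apply A (SymmetricAlgebra A M) L, hΨ, hD₁, hD₂]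
    change e₁ (d m) + ∑ i, ρ i • D₀ (c i m) - _ = _
    exact add_sub_cancel_right _ _
  have hΨΦ : Ψ.comp Φ = LinearMap.id := by
    apply TensorProduct.AlgebraTensorModule.ext
    intro l f
    simp only [Φ, LinearMap.comp_apply, LinearMap.liftBaseChange_tmul, map_smul, φ,
      LinearMap.add_apply, LinearMap.smul_apply, map_add, hΨω, hΨη, LinearMap.id_apply]
    simp only [v, LinearMap.sub_apply, LinearMap.smul_apply, LinearMap.comp_apply, e₁,
      TensorProduct.mk_apply, sub_add_cancel]
    simp only [smul_sub, smul_tmul', smul_eq_mul, mul_one, mul_comm w l, sub_add_cancel]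
  exact ⟨LinearEquiv.ofLinear Φ Ψ hΦΨ hΨΦ⟩

end Groth.Agent.SymKaehler
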